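import Groth.Agent.FibDimLib.SchemeInv
import Groth.Agent.UOpenLib.FibreDim

/-! Fibre dimensions along maps inducing bijections on fibres, and domination of components by flat maps. -/

set_option autoImplicit false
universe u

open CategoryTheory AlgebraicGeometry TopologicalSpace Topology

namespace CycEqLib

variable {A B T : Scheme.{u}}

/-- A point without proper generizations is the generic point of a component. -/
theorem eq_of_specializes_of_closure_mem {a a' : A} (ha : closure {a} ∈ irreducibleComponents (A : Type u))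
    (h : a' ⤳ a) : a' = a := FibDimLib.eq_of_specializes_of_closure_mem ha h

theorem exists_generic {C : Set A} (hC : C ∈ irreducibleComponents (A : Type u)) :
    ∃ c : A, closure {c} = C :=
  ⟨(hC.1).genericPoint,
    (hC.1.isGenericPoint_genericPoint_closure).def.trans
      (closure_eq_iff_isClosed.mpr (isClosed_of_mem_irreducibleComponents C hC))⟩

/-- A flat morphism maps every component densely into a component. -/
theorem dominates_of_flat (h : A ⟶ B) [Flat h] {C : Set A} (hC : C ∈ irreducibleComponents (A : Type u)) :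
    closure (h.base '' C) ∈ irreducibleComponents (B : Type u) := by
  obtain ⟨c, rfl⟩ := exists_generic hC
  rw [closure_image_closure h.continuous, Set.image_singleton]
  refine FibDimLib.closure_mem_irreducibleComponents_of_max fun b hb => ?_
  obtain ⟨c', hc', rfl⟩ := Flat.generalizingMap (f := h) hb
  rw [eq_of_specializes_of_closure_mem hC hc']

/-- Fibre dimension is unchanged by an immersion which is bijective on the fibre. -/
theorem fibreDimAt_eq_of_range (i : A ⟶ B) [IsPreimmersion i] (h : A ⟶ T) (k : B ⟶ T) (w : i ≫ k = h)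
    (v : A) (hrange : ∀ b, k.base b = h.base v → b ∈ Set.range i.base) :
    FlatMor.fibreDimAt h v = FlatMor.fibreDimAt k (i.base v) := by
  subst w
  have hv : (i ≫ k).base v = k.base (i.base v) := rfl
  let Fk := k.base ⁻¹' {k.base (i.base v)}
  have hemb : IsEmbedding (Fk.restrictPreimage i.base) := i.isEmbedding.restrictPreimage Fk
  have hs : Function.Surjective (Fk.restrictPreimage i.base) := fun ⟨b, hb⟩ => by
    obtain ⟨a, rfl⟩ := hrange b hb
    exact ⟨⟨a, hb⟩, rfl⟩
  let e1 := ((i ≫ k).fiberHomeo ((i ≫ k).base v))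
  let e2 : ↥(i.base ⁻¹' Fk) ≃ₜ ↥Fk := hemb.toHomeomorphOfSurjective hs
  let e3 := (k.fiberHomeo (k.base (i.base v))).symm
  have he : IsOpenEmbedding (fun a => e3 (e2 (e1 a))) :=
    (e3.isOpenEmbedding.comp e2.isOpenEmbedding).comp e1.isOpenEmbedding
  rw [FlatMor.fibreDimAt, FlatMor.fibreDimAt, ← FibDimLib.localDim_eq_of_isOpenEmbedding he]
  congr 1
  simp only [e3]
  rw [Homeomorph.symm_apply_eq]
  apply Subtype.ext
  show i.base ((i ≫ k).fiberι _ ((i ≫ k).asFiber v)) = k.fiberι _ (k.asFiber (i.base v))
  rw [Scheme.Hom.fiberι_asFiber, Scheme.Hom.fiberι_asFiber]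

/-- The fibre through a point all of whose fibre is in the closure of one fibre point. -/
theorem fibreDimAt_eq_of_generic (k : B ⟶ T) [LocallyOfFiniteType k] {b₀ b : B} (hb₀ : ∀ b', b₀ ⤳ b')
    (hb : k.base b₀ = k.base b) : FlatMor.fibreDimAt k b = UOpenLib.fibreClosureDim k b₀ := by
  obtain ⟨x₀, hx₀, -, hmax, hd⟩ := UOpenLib.exists_max_fibreDimAt k b
  rw [← hd, hmax b₀ (hb.trans hx₀.symm) (specializes_iff_mem_closure.1 (hb₀ x₀))]

end CycEqLib
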